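import Cfsg.Agent.H834.Cov.Su7
import Cfsg.Agent.H884.ElNum

/-!
# S3691: maximal subgroups of `SU_7(q)` containing an element of order `r ^ a`, `r` a primitive prime (helper427)

`max_seven`.
-/

set_option autoImplicit false
set_option linter.unusedSectionVars false

namespace Cfsg.Agent.H427.MaxSeven

open Cfsg Cfsg.Geo Module Cfsg.Agent.H918 Cfsg.Agent.H251 Cfsg.Agent.H251.GeoCard Cfsg.Agent.H951
open Cfsg.Agent.H834.Cov
open scoped Matrix MatrixGroups

/-- arithmetic of the primitive primes of `p ^ (2 m f) - 1`, `m` odd. -/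
theorem arith {p f m r : ℕ} (hp : p.Prime) (hf : 1 ≤ f) (hm : 3 ≤ m) (hodd : Odd m)
    (hr : H884.El.PP p (f * (2 * m)) r) :
    (∀ k, r ∣ p ^ k - 1 ↔ 2 * m * f ∣ k) ∧ 2 * m * f ∣ r - 1 ∧ orderOf (-((p ^ f : ℕ) : ZMod r)) = m := by
  have h6 : 6 ≤ 2 * m * f := by nlinarith
  have e1 : f * (2 * m) = 2 * m * f := by ring
  rw [e1] at hr
  have hiff : ∀ k, r ∣ p ^ k - 1 ↔ 2 * m * f ∣ k := fun k => hr.dvd_iff hp.one_lt.le k
  refine ⟨hiff, hr.dvd_sub_one (by omega), ?_⟩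
  have := Fact.mk hr.prime
  have hpord : ∀ k, (p : ZMod r) ^ k = 1 ↔ 2 * m * f ∣ k := by
    intro k
    rw [← orderOf_dvd_iff_pow_eq_one, hr.ord]
  have h1 : ((p ^ f : ℕ) : ZMod r) ^ m = -1 := by
    have h2 : ((p ^ f : ℕ) : ZMod r) ^ m * ((p ^ f : ℕ) : ZMod r) ^ m = 1 := by
      push_cast
      rw [← pow_add, ← pow_mul, hpord]
      exact ⟨1, by ring⟩
    have h3 : ((p ^ f : ℕ) : ZMod r) ^ m ≠ 1 := by
      push_cast
      rw [← pow_mul, Ne, hpord]
      intro h4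
      have := Nat.le_of_dvd (by positivity) h4
      nlinarith
    rcases mul_self_eq_one_iff.1 h2 with h4 | h4
    · exact absurd h4 h3
    · exact h4
  apply Nat.dvd_antisymm
  · rw [orderOf_dvd_iff_pow_eq_one, hodd.neg_pow, h1, neg_neg]
  · have h2 : (-((p ^ f : ℕ) : ZMod r)) ^ orderOf (-((p ^ f : ℕ) : ZMod r)) = 1 := pow_orderOf_eq_one _
    set o := orderOf (-((p ^ f : ℕ) : ZMod r)) with ho
    have h3 : (p : ZMod r) ^ (2 * f * o) = 1 := by
      have h4 : ((-((p ^ f : ℕ) : ZMod r)) ^ o) ^ 2 = 1 := by rw [h2, one_pow]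
      rw [← pow_mul, mul_comm o 2, pow_mul, neg_sq] at h4
      push_cast at h4
      rw [← h4, ← pow_mul, ← pow_mul]
      congr 1
      ring
    rw [hpord] at h3
    have h4 : 2 * f * m ∣ 2 * f * o := by
      rwa [show 2 * m * f = 2 * f * m by ring] at h3
    exact Nat.dvd_of_mul_dvd_mul_left (by omega) h4

/-- **maximal subgroups of `SU_7(q)`** with an element of order `r ^ a > 29`, `r` a primitive prime of
`p ^ (14 f) - 1`. -/
theorem max_seven {E : Type} [Field E] [Fintype E] {p f r a : ℕ} (hp : p.Prime) (hf : 1 ≤ f)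
    (hF : Fintype.card E = (p ^ f) ^ 2) (hr : H884.El.PP p (f * (2 * 7)) r)
    {H : Subgroup (GL (Fin 7) E)} (hH : IsMaximalIn (GU 7 E (p ^ f) ⊓ specialLinear (Fin 7) E) H)
    {y : GL (Fin 7) E} (hy : y ∈ H) (hya : orderOf y = r ^ a) (hbig : 4 * 7 + 1 < r ^ a) :
    ∃ K : Subalgebra E (Matrix (Fin 7) (Fin 7) E), IsFieldSubalgebra 7 K ∧ H ≤ subalgebraNormalizer K := by
  classical
  obtain ⟨hsiff, hs1, hsord⟩ := arith hp hf (by norm_num) (by decide) hr
  have hs := hr.prime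
  have hs15 : 14 < r := by
    have h1 := Nat.le_of_dvd (by have := hs.two_le; omega) hs1
    have h2 : 2 * 7 * 1 ≤ 2 * 7 * f := Nat.mul_le_mul_left _ hf
    omega
  have hfs := Fact.mk hs
  have hdvd : r ∣ orderOf y := by
    rw [hya]
    refine dvd_pow_self _ ?_
    rintro rfl
    norm_num at hbig
  set x := y ^ (orderOf y / r) with hxdef
  have hxo : orderOf x = r := exists_pow_order hdvd
  have hx : x ∈ H := Subgroup.pow_mem _ hy _
  have hsH : r ∣ Nat.card H := dvd_card_of_mem hx (by rw [hxo])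
  have hq : p ^ f = p ^ f := rfl
  rcases Cfsg.Agent.S5811.result (p ^ f) hF H hH with h | h | h | h | h | h | h | h
  · obtain ⟨W, hW0, hW, rfl⟩ := h
    exact (GeoU.kill_ts hF hs hsord (by decide) (by norm_num) (by norm_num) hW0 hW
      (hsH.trans (Subgroup.card_dvd_of_le (inf_le_inf_left _ inf_le_left)))).elim
  · obtain ⟨W, hW0, hW, hW2, rfl⟩ := h
    have := GeoU.kill_nd hF hs hsord (by decide) (by norm_num) (by norm_num) hW0 hW2
      (hsH.trans (Subgroup.card_dvd_of_le (inf_le_inf_left _ inf_le_left)))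
    omega
  · obtain ⟨D, hD, rfl⟩ := h
    exact (decomp_kill hF hs hsord (by decide) (by norm_num) (by omega) (by norm_num) hD.decomp (GeoU.dvd_left hsH)).elim
  · obtain ⟨K, hK, -, rfl⟩ := h
    exact ⟨K, hK, inf_le_left⟩
  · obtain ⟨F₀, r', P, hr', hro, hcd, -, rfl⟩ := h
    exact (subfield_kill hF hp hq hf hs hsiff hsord (by decide) (by norm_num) (by norm_num) hr'.two_le hcd
      (GeoU.dvd_left hsH)).elim
  · obtain ⟨-, F₀, P, hcd, -, rfl⟩ := h
    exact (subfield_kill hF hp hq hf hs hsiff hsord (by decide) (by norm_num) (by norm_num) le_rfl hcd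
      (GeoU.dvd_left hsH)).elim
  · obtain ⟨p', R, -, -, -, hR, habs, -, hRc, hRz, rfl⟩ := h
    refine (symp_kill (k := 1) hF hs hsord (by decide) (by norm_num) (by norm_num) (by omega) hR habs
      (Or.inl ⟨by decide, hRz, by rw [hRc]; norm_num⟩) (GeoU.dvd_left hsH)).elim
  · obtain ⟨P, hP, -, -, -, K, i1, i2, hK, ⟨e⟩⟩ := Cfsg.Agent.S5812.result (p ^ f) hF H hH h
    have h1 := core_dvd (by norm_num) hP hs (not_dvd_pred hF hsord (by norm_num)) hx hxo
    have := prime_aut_u33 hK e hs h1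
    omega

/-- the exact form asked for -/
theorem max_seven_prop : ∀ {E : Type} [Field E] [Fintype E] {p f r a : ℕ}, p.Prime → 1 ≤ f →
    Fintype.card E = (p ^ f) ^ 2 → Cfsg.Agent.H884.El.PP p (f * (2 * 7)) r → ∀ {H : Subgroup (GL (Fin 7) E)},
    Cfsg.Geo.IsMaximalIn (Cfsg.GU 7 E (p ^ f) ⊓ Cfsg.Geo.specialLinear (Fin 7) E) H →
    ∀ {x : GL (Fin 7) E}, x ∈ H → orderOf x = r ^ a → 4 * 7 + 1 < r ^ a →
    ∃ K : Subalgebra E (Matrix (Fin 7) (Fin 7) E), Cfsg.Geo.IsFieldSubalgebra 7 K ∧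
      H ≤ Cfsg.Geo.subalgebraNormalizer K :=
  fun hp hf hF hr _ hH _ hx hxo hbig => max_seven hp hf hF hr hH hx hxo hbig

end Cfsg.Agent.H427.MaxSeven
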